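import Cfsg.Agent.Mrg.Omega.OM.YThm.Def
import Cfsg.Agent.Mrg.Omega.OM.YThm.TwoDec
import Cfsg.Agent.Mrg.Omega.OM.YThm.PlugA
import Cfsg.Agent.Mrg.Omega.NoFF.LemmaW
import Cfsg.Agent.Mrg.Omega.OM.YThm.FfRep
import Cfsg.Agent.Mrg.Omega.OM.FrNat
import Cfsg.Agent.Mrg.Omega.OM.Swap.Pair

-- merged: Cfsg.Agent.Mrg.Omega.OM.YThm.Main
section

/-!
# THEOREM Y (helper566): the assembly of parts A (`Min`), B (`Two`), C (`End`)
-/

set_option autoImplicit false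

namespace Cfsg.Agent.Omega.OM.YThm

open Subgroup Cfsg.Agent.ZN Cfsg.Agent.ZN.ChoiceBase Cfsg.Agent.ZN.ChoiceSit
open scoped Pointwise

universe u

/-- **THEOREM Y** (helper743 #16998, helper350 #19419). -/
theorem YS.main {H : Type u} [Group H] [Finite H] {M : Type*} [AddCommGroup M] [Finite M] [DistribMulAction H M]
    {𝒜 : Set (Subgroup H)} {S : Subgroup H} {ι : Type*} [Fintype ι] {Zi : ι → AddSubgroup M} {Z V : AddSubgroup M}
    (h : YS 𝒜 S Zi Z V) :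
    (∀ g : H, g • Z = Z) ∨ ∃ R : AddSubgroup M, R ≤ Z ∧ Nat.card Z = 2 * Nat.card R ∧
      ∃ g : H, (∀ r ∈ R, g • r = r) ∧ g • Z ≠ Z := by
  by_cases hne : ∃ g : H, g • Z ≠ Z
  · obtain ⟨A, J₀, L, Z₁, d⟩ := h.exists_ld hne
    exact Or.inr (d.end_of h (h.card_eq d))
  · push Not at hne
    exact Or.inl hne

end Cfsg.Agent.Omega.OM.YThm

end

-- merged: Cfsg.Agent.Mrg.Omega.OM.YThm.PlugB
section

/-!
# THEOREM Y, plug: the coordinates of the module `W`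

* `wd` : `C = C_G(Z)` acts on `W = ⟨V^C⟩`;
* `Dt.co` : coordinates of `ad V`, `Dt.odd`, `Dt.lemV`, `Dt.dec`, `Dt.uni`, `Dt.prm`.
-/

set_option autoImplicit false
set_option linter.unusedSectionVars false

namespace Cfsg.Agent.Omega.OM.YThm.Plug

open Subgroup Cfsg Cfsg.Agent.ZN.ChoiceBase Cfsg.Agent.ZN.ChoiceSit
open Cfsg.Agent.ZN (jj zj bau zc zl o2)
open Cfsg.Agent.Lib.SL2Mat Cfsg.Agent.Omega.NatPair
open Cfsg.Agent.Omega.FFThm (NatK SymK ActsSL)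
open Cfsg.Agent.Omega.FrameFF (cv)
open Cfsg.Agent.Omega.FrameNOFF (CZ)
open Cfsg.Agent.Omega.NO3S (HypJ Hyp WW)
open Cfsg.Agent.Omega.OM.YThm.MW (vl vl_mem vl_mk vl_add vl_zero vl_inj vl_smul ad mem_ad smul_ad_eq_iff smul_eq_iff)
open scoped Pointwise

universe u

variable {G : Type u} [Group G] [Finite G] {S : Sylow 2 G} {P : Subgroup G}

theorem wd (h : Hyp S P) : WD (CZ (S : Subgroup G)) (WW (S : Subgroup G) P) where
  nrm := NoFF.Lines.C_le_normalizer_W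
  el := Cfsg.Agent.PLocal.ThompsonJ.isElementaryAbelian_iff.2
    ⟨fun a ha _ hb => mem_centralizer_iff.1 (h.W_comm hb) a ha, h.W_sq⟩

theorem S_le_CZ (S : Sylow 2 G) : (S : Subgroup G) ≤ CZ (S : Subgroup G) :=
  Cfsg.Agent.MinSimple.VModule.le_centralizer_zc _

theorem W_le_S (h : Hyp S P) : WW (S : Subgroup G) P ≤ (S : Subgroup G) :=
  h.geo.W_le_o2.trans ((Cfsg.Agent.Omega.MinPar.isLoc_centralizer_zc S (h.ctx.sylow_ne_bot S)).o2_le S)

theorem V_le_W : zl (S : Subgroup G) P ≤ WW (S : Subgroup G) P := NO3S.zl_le_WW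

/-- `S` as a subgroup of `C`. -/
abbrev SC (S : Sylow 2 G) : Subgroup (CZ (S : Subgroup G)) := (S : Subgroup G).subgroupOf (CZ (S : Subgroup G))

variable {F : Type} [Field F] [Finite F] [CharP F 2] {k : ℕ}
  {N : NatK F (S : Subgroup G) P (zl (S : Subgroup G) P) (cv (S : Subgroup G) P) k}
  {L W Z C A : Fin k → Subgroup G} (D : Dt S P N L W Z C A)

/-- the module -/
abbrev Md (D : Dt S P N L W Z C A) : Type u := MW (wd D.line.hyp.toHyp)

/-- `V` -/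
abbrev VV (D : Dt S P N L W Z C A) : AddSubgroup (Md D) := ad (wd D.line.hyp.toHyp) (zl (S : Subgroup G) P)

/-- `Z_J` -/
abbrev ZZ (D : Dt S P N L W Z C A) : AddSubgroup (Md D) := ad (wd D.line.hyp.toHyp) (zj (S : Subgroup G))

/-- `Z i` -/
abbrev ZZi (D : Dt S P N L W Z C A) (i : Fin k) : AddSubgroup (Md D) := ad (wd D.line.hyp.toHyp) (Z i)

include D in
theorem Dt.Z_le_W : zj (S : Subgroup G) ≤ WW (S : Subgroup G) P := D.cd.ZV.trans V_le_W

theorem Dt.smulZ {g : CZ (S : Subgroup G)} :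
    g • ZZ D = ZZ D ↔ cj (g : G) (zj (S : Subgroup G)) = zj (S : Subgroup G) :=
  smul_ad_eq_iff _ D.Z_le_W D.Z_le_W

theorem Dt.co {e : G → Fin k → Fin 2 → F}
    (c : Cn F (S : Subgroup G) (bau (S : Subgroup G)) (zl (S : Subgroup G) P) (zj (S : Subgroup G)) k e) :
    Co F (SC S) (VV D) (ZZ D) k (fun x => e (vl x)) where
  add := fun v hv w hw => c.mul _ hv _ hw
  surj := fun x => by
    obtain ⟨v, hv, hx⟩ := c.surj x
    exact ⟨MW.mk _ ⟨v, V_le_W hv⟩, hv, hx⟩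
  inj := fun v hv h0 => vl_inj (by rw [c.inj _ hv h0]; rfl)
  ZV := fun x hx => c.ZV hx
  memZ := fun v hv => c.memZ _ hv
  SV := fun s hs v hv => (c.sn (s : G) hs).nV _ hv
  act := fun s hs => by
    obtain ⟨π, σ, h1⟩ := c.sact (s : G) hs
    refine ⟨π, σ, fun v hv i => ?_, fun z hz i => ?_⟩
    · have := h1.one _ hv i
      rw [Pi.one_apply, one_mul] at this
      exact this
    · have := h1.zero _ hz i
      rw [Pi.one_apply, one_mul] at this
      exact this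
  up := fun s hs hz => by
    have hb : (s : G) ∈ bau (S : Subgroup G) := by
      rw [mem_bau]
      refine ⟨hs, fun y hy => ?_⟩
      have := (smul_eq_iff s (MW.mk (wd D.line.hyp.toHyp) ⟨y, D.Z_le_W hy⟩)).1 (hz _ hy)
      exact this.symm
    obtain ⟨b, h1⟩ := c.act _ hb
    exact ⟨b, fun v hv i => h1 _ hv i⟩

theorem Dt.mem_ZZi {z₀ f₀ : Fin k → F} (hz : ∀ i, z₀ i ≠ 0) (i : Fin k) (z : Md D) :
    z ∈ ZZi D i ↔ z ∈ ZZ D ∧ ∀ j, j ≠ i → rs z₀ f₀ N.e (vl z) j 0 = 0 := by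
  rw [mem_ad, mem_ad, D.mem_Z']
  refine and_congr_right fun _ => forall_congr' fun j => forall_congr' fun _ => ?_
  rw [rs_zero]
  exact ⟨fun h => by rw [h, mul_zero], fun h => (mul_eq_zero.1 h).resolve_left (inv_ne_zero (hz j))⟩

include D in
theorem Dt.two' (x : Md D) : x + x = 0 :=
  vl_inj (by rw [vl_add, (wd D.line.hyp.toHyp).sq (vl_mem x)]; rfl)

include D in
theorem Dt.isP : IsPGroup 2 (SC S) := S.isPGroup'.comap_subtype

/-- `YS0.odd` -/
theorem Dt.odd (g : CZ (S : Subgroup G)) (hg : g • ZZ D = ZZ D) (ho : Odd (orderOf g)) (i : Fin k)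
    (hi : g • ZZi D i = ZZi D i) : ∀ z ∈ ZZi D i, g • z = z := by
  obtain ⟨z₀, f₀, hz, hf, c⟩ := D.exists_cn
  refine (D.co c).odd D.isP (fun i z => D.mem_ZZi hz i z) (fun g hg => ?_) (fun g hg z hz hs => ?_) g hg ho i hi
  · obtain ⟨n, hn, h1⟩ := Dt.frat (D.smulZ.1 hg)
    obtain ⟨π, σ, a, d, h2, -⟩ := c.toCd.semi ((D.nm hn).rsc hz hf)
    refine ⟨π, a, σ, fun z hz i => ?_⟩
    have h3 := h2.zero _ hz i
    rw [← h1 _ hz] at h3
    exact h3
  · have h1 : vl z ∈ zc (S : Subgroup G) := by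
      rw [mem_zc]
      refine ⟨W_le_S D.line.hyp.toHyp (vl_mem z), D.line.hyp.toHyp.W_sq _ (vl_mem z), fun s hs' => ?_⟩
      exact (smul_eq_iff _ _).1 (hs ⟨s, S_le_CZ S hs'⟩ hs')
    exact (smul_eq_iff _ _).2 (mem_centralizer_iff.1 g.2 _ h1).symm

/-- `YS.lemV` -/
theorem Dt.lemV (E : Subgroup (CZ (S : Subgroup G))) (hES : E ≤ SC S) (hE : El (Md D) E) :
    Nat.card E * Nat.card (ZZ D) * Nat.card (fx (VV D) E) ≤
      Nat.card (ct E (VV D)) * Nat.card (fx (ZZ D) E) * Nat.card (VV D) := by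
  obtain ⟨z₀, f₀, hz, hf, c⟩ := D.exists_cn
  exact (D.co c).lemV D.two' hES hE

/-- `YS0.prm` -/
theorem Dt.prm (g : CZ (S : Subgroup G)) (hg : g • ZZ D = ZZ D) (i : Fin k) : ∃ j, g • ZZi D i = ZZi D j := by
  obtain ⟨n, hn, h1⟩ := Dt.frat (D.smulZ.1 hg)
  obtain ⟨-, h2⟩ := D.line.norm hn
  obtain ⟨j, h3, -⟩ := h2 i
  have hZ : ∀ i, Z i ≤ zj (S : Subgroup G) := fun i v hv => (D.mem_Z'.1 hv).1
  refine ⟨j, (smul_ad_eq_iff _ ((hZ i).trans D.Z_le_W) ((hZ j).trans D.Z_le_W)).2 ?_⟩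
  rw [← h3]
  ext x
  constructor
  · rintro ⟨z, hz, rfl⟩
    exact ⟨z, hz, (h1 z (hZ i hz)).symm⟩
  · rintro ⟨z, hz, rfl⟩
    exact ⟨z, hz, h1 z (hZ i hz)⟩

theorem Dt.ZiZ (i : Fin k) : ZZi D i ≤ ZZ D := fun _ hx => (D.mem_Z'.1 hx).1

theorem Dt.e_sum (f : Fin k → Md D) (hf : ∀ i, f i ∈ ZZi D i) (i : Fin k) :
    N.e (vl (∑ j, f j)) i = N.e (vl (f i)) i := by
  classical
  have key : ∀ s : Finset (Fin k), (∑ j ∈ s, f j) ∈ VV D ∧
      N.e (vl (∑ j ∈ s, f j)) i = if i ∈ s then N.e (vl (f i)) i else 0 := by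
    intro s
    induction s using Finset.induction_on with
    | empty =>
      refine ⟨(VV D).zero_mem, ?_⟩
      rw [Finset.sum_empty, vl_zero, D.cd.map_one, if_neg (Finset.notMem_empty i)]
      rfl
    | insert a s ha ih =>
      obtain ⟨h1, h2⟩ := ih
      have ha1 : f a ∈ VV D := D.cd.ZV (D.ZiZ a (hf a))
      rw [Finset.sum_insert ha]
      refine ⟨(VV D).add_mem ha1 h1, ?_⟩
      rw [vl_add, D.cd.mul _ ha1 _ h1, Pi.add_apply, h2]
      by_cases hia : i = a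
      · subst hia
        rw [if_neg ha, add_zero, if_pos (Finset.mem_insert_self _ _)]
      · have h3 : N.e (vl (f a)) i = 0 := by
          obtain ⟨h4, h5⟩ := D.mem_Z'.1 (hf a)
          funext l
          fin_cases l
          · exact h5 i hia
          · exact (D.cd.memZ _ ha1).1 h4 i
        rw [h3, zero_add]
        simp only [Finset.mem_insert, hia, false_or]
  have := (key Finset.univ).2
  rwa [if_pos (Finset.mem_univ i)] at this

theorem Dt.sum_mem (f : Fin k → Md D) (hf : ∀ i, f i ∈ ZZi D i) : (∑ j, f j) ∈ VV D :=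
  (VV D).sum_mem fun i _ => D.cd.ZV (D.ZiZ i (hf i))

/-- `YS0.dec` -/
theorem Dt.dec (z : Md D) (hz : z ∈ ZZ D) : ∃ f : Fin k → Md D, (∀ i, f i ∈ ZZi D i) ∧ z = ∑ i, f i := by
  classical
  have h1 : ∀ i, ∃ v ∈ zl (S : Subgroup G) P, N.e v = Pi.single i (N.e (vl z) i) := fun i => D.cd.surj _
  choose v hv hve using h1
  have hzV := D.cd.ZV hz
  have hf : ∀ i, (MW.mk (wd D.line.hyp.toHyp) ⟨v i, V_le_W (hv i)⟩ : Md D) ∈ ZZi D i := by
    intro i
    show v i ∈ Z i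
    rw [D.mem_Z', D.cd.memZ _ (hv i)]
    refine ⟨fun l => ?_, fun l hl => ?_⟩
    · rw [hve]
      by_cases hli : l = i
      · subst hli
        rw [Pi.single_eq_same]
        exact (D.cd.memZ _ hzV).1 hz l
      · rw [Pi.single_eq_of_ne hli]; rfl
    · rw [hve, Pi.single_eq_of_ne hl]; rfl
  refine ⟨fun i => MW.mk _ ⟨v i, V_le_W (hv i)⟩, hf, ?_⟩
  apply vl_inj
  refine D.cd.eq_of hzV (D.sum_mem _ hf) ?_
  funext i
  rw [D.e_sum _ hf i, vl_mk, hve, Pi.single_eq_same]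

/-- `YS0.uni` -/
theorem Dt.uni (f : Fin k → Md D) (hf : ∀ i, f i ∈ ZZi D i) (h0 : ∑ i, f i = 0) (i : Fin k) : f i = 0 := by
  have hi : f i ∈ VV D := D.cd.ZV (D.ZiZ i (hf i))
  have h1 := D.e_sum f hf i
  rw [h0, vl_zero, D.cd.map_one] at h1
  apply vl_inj
  refine D.cd.inj _ hi ?_
  funext l
  by_cases hl : l = i
  · subst hl; exact h1.symm
  · obtain ⟨h4, h5⟩ := D.mem_Z'.1 (hf i)
    funext m
    fin_cases m
    · exact h5 l hl
    · exact (D.cd.memZ _ hi).1 h4 l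

end Cfsg.Agent.Omega.OM.YThm.Plug

end

-- merged: Cfsg.Agent.Mrg.Omega.OM.YThm.PlugC
section

/-!
# THEOREM Y, plug: the family, the situation `YS`

* `Fa S W` : the subgroups `A` of `C` with `A W = A₀ W` for some elementary abelian `A₀ ≤ C` of maximal order;
* `Dt.ys` : the situation `YS`; `Dt.main` : the result in `G`.
-/

set_option autoImplicit false
set_option linter.unusedSectionVars false

namespace Cfsg.Agent.Omega.OM.YThm.Plug

open Subgroup Cfsg Cfsg.Agent.ZN.ChoiceBase Cfsg.Agent.ZN.ChoiceSit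
open Cfsg.Agent.ZN (jj zj bau zc zl o2)
open Cfsg.Agent.Lib.SL2Mat Cfsg.Agent.Omega.NatPair
open Cfsg.Agent.Omega.FFThm (NatK SymK ActsSL)
open Cfsg.Agent.Omega.FrameFF (cv)
open Cfsg.Agent.Omega.FrameNOFF (CZ)
open Cfsg.Agent.Omega.NO3S (HypJ Hyp WW)
open Cfsg.Agent.Omega.OM.YThm.MW
open scoped Pointwise

universe u

section family

variable {G : Type u} [Group G] {C W : Subgroup G}

/-- `A W = A₀ W`, `A₀` elementary abelian of order `m` -/
def Fa (C W : Subgroup G) (m : ℕ) : Set (Subgroup C) :=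
  {A | ∃ A₀ : Subgroup G, IsElementaryAbelian 2 A₀ ∧ Nat.card A₀ = m ∧ A₀ ≤ C ∧ upc A ≤ A₀ ⊔ W ∧ A₀ ≤ upc A ⊔ W}

variable {m : ℕ}

theorem Fa.conj (w : WD C W) {A : Subgroup C} (hA : A ∈ Fa C W m) (g : C) : cj g A ∈ Fa C W m := by
  obtain ⟨A₀, h1, h2, h3, h4, h5⟩ := hA
  have hW : cj (g : G) W = W := cj_eq_of_mem_normalizer (w.nrm g.2)
  refine ⟨cj (g : G) A₀, isElementaryAbelian_cj _ h1, by rw [card_cj, h2], ?_, ?_, ?_⟩
  · rintro _ ⟨a, ha, rfl⟩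
    exact mul_mem (mul_mem g.2 (h3 ha)) (inv_mem g.2)
  · rw [upc_cj]
    refine (cj_mono (g : G) h4).trans (le_of_eq ?_)
    rw [show cj (g : G) (A₀ ⊔ W) = cj (g : G) A₀ ⊔ cj (g : G) W from Subgroup.map_sup _ _ _, hW]
  · rw [upc_cj]
    refine (cj_mono (g : G) h5).trans (le_of_eq ?_)
    rw [show cj (g : G) (upc A ⊔ W) = cj (g : G) (upc A) ⊔ cj (g : G) W from Subgroup.map_sup _ _ _, hW]

theorem mul_of_sup (w : WD C W) {A₀ : Subgroup G} (hA : A₀ ≤ C) {x : G} (hx : x ∈ A₀ ⊔ W) :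
    ∃ a ∈ A₀, ∃ v ∈ W, x = a * v := by
  have h1 : x ∈ ((A₀ ⊔ W : Subgroup G) : Set G) := hx
  rw [coe_mul_of_left_le_normalizer_right _ _ (hA.trans w.nrm)] at h1
  obtain ⟨a, ha, v, hv, e⟩ := h1
  exact ⟨a, ha, v, hv, e.symm⟩

theorem Fa.act (w : WD C W) {A : Subgroup C} {A₀ : Subgroup G} (h3 : A₀ ≤ C) (h4 : upc A ≤ A₀ ⊔ W) {a : C}
    (ha : a ∈ A) : ∃ b ∈ A₀, ∀ v ∈ W, (a : G) * v * (a : G)⁻¹ = b * v * b⁻¹ := by
  obtain ⟨b, hb, v, hv, e⟩ := mul_of_sup w h3 (h4 (coe_mem_upc.2 ha))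
  refine ⟨b, hb, fun x hx => ?_⟩
  rw [e]
  have h1 := w.comm hv hx
  calc b * v * x * (b * v)⁻¹ = b * (v * x) * v⁻¹ * b⁻¹ := by group
    _ = b * (x * v) * v⁻¹ * b⁻¹ := by rw [h1]
    _ = b * x * b⁻¹ := by group

theorem isP_elab {E : Subgroup G} (hE : IsElementaryAbelian 2 E) : IsPGroup 2 E := by
  intro x
  exact ⟨1, by rw [pow_one]; exact Subtype.ext (SQ1.Bau.elem_sq hE x x.2)⟩

theorem Fa.pg (w : WD C W) {A : Subgroup C} (hA : A ∈ Fa C W m) : IsPGroup 2 A := by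
  obtain ⟨A₀, h1, h2, h3, h4, h5⟩ := hA
  rw [← isPGroup_upc]
  exact (IsPGroup.to_sup_of_normal_right' (isP_elab h1) (isP_elab w.el) (h3.trans w.nrm)).to_le h4

theorem Fa.el (w : WD C W) {A : Subgroup C} (hA : A ∈ Fa C W m) : El (MW w) A := by
  have hp := Fa.pg w hA
  obtain ⟨A₀, h1, h2, h3, h4, h5⟩ := hA
  refine ⟨hp, fun a ha b hb x => ?_, fun a ha x => ?_⟩
  · obtain ⟨a₁, ha₁, e1⟩ := Fa.act w h3 h4 ha
    obtain ⟨b₁, hb₁, e2⟩ := Fa.act w h3 h4 hb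
    have hc : a₁ * b₁ = b₁ * a₁ :=
      (Cfsg.Agent.PLocal.ThompsonJ.isElementaryAbelian_iff.1 h1).1 a₁ ha₁ b₁ hb₁
    apply vl_inj
    have k1 := e2 _ (vl_mem x)
    have k2 := e1 _ (vl_mem x)
    have k3 := e1 _ (vl_mem (b • x))
    have k4 := e2 _ (vl_mem (a • x))
    rw [vl_smul, k3, vl_smul, k1, vl_smul, k4, vl_smul, k2]
    calc a₁ * (b₁ * vl x * b₁⁻¹) * a₁⁻¹ = (a₁ * b₁) * vl x * (a₁ * b₁)⁻¹ := by group
      _ = (b₁ * a₁) * vl x * (b₁ * a₁)⁻¹ := by rw [hc]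
      _ = b₁ * (a₁ * vl x * a₁⁻¹) * b₁⁻¹ := by group
  · obtain ⟨a₁, ha₁, e1⟩ := Fa.act w h3 h4 ha
    have hs : a₁ * a₁ = 1 := by
      have := h1.2 a₁ ha₁
      rwa [pow_two] at this
    apply vl_inj
    have k2 := e1 _ (vl_mem x)
    have k3 := e1 _ (vl_mem (a • x))
    rw [vl_smul, k3, vl_smul, k2]
    calc a₁ * (a₁ * vl x * a₁⁻¹) * a₁⁻¹ = (a₁ * a₁) * vl x * (a₁ * a₁)⁻¹ := by group
      _ = vl x := by rw [hs]; group

theorem upc_nrm [Finite G] {w : WD C W} {A : Subgroup C} {X : AddSubgroup (MW w)}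
    (h : ∀ a ∈ A, ∀ x ∈ X, a • x ∈ X) : upc A ≤ normalizer (gp X : Set G) := by
  intro g hg
  obtain ⟨hgC, hgA⟩ := mem_upc.1 hg
  refine mem_normalizer_of_cj_le ?_
  rintro _ ⟨_, ⟨x, hx, rfl⟩, rfl⟩
  exact ⟨(⟨g, hgC⟩ : C) • x, h _ hgA x hx, rfl⟩

theorem Fa.ff [Finite G] (w : WD C W) (hm : ∀ E : Subgroup G, IsElementaryAbelian 2 E → Nat.card E ≤ m)
    {A : Subgroup C} (hA : A ∈ Fa C W m) (X : AddSubgroup (MW w)) (hX : ∀ a ∈ A, ∀ x ∈ X, a • x ∈ X) :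
    Nat.card X * Nat.card (ct A X) ≤ Nat.card A * Nat.card (fx X A) := by
  obtain ⟨A₀, h1, h2, h3, h4, h5⟩ := hA
  rw [gp_ct, gp_fx, ← card_gp, ← card_upc A]
  exact FfRep.ffG hm h1 h2 w.el h4 h5 (gp_le X) (upc_nrm hX)

theorem Fa.rep [Finite G] (w : WD C W) (hWC : W ≤ C)
    (hm : ∀ E : Subgroup G, IsElementaryAbelian 2 E → Nat.card E ≤ m)
    {A : Subgroup C} (hA : A ∈ Fa C W m) (X : AddSubgroup (MW w)) (hX : ∀ a ∈ A, ∀ x ∈ X, a • x ∈ X)
    (hne : ∃ a ∈ A, ∃ x ∈ X, a • x ≠ x) :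
    ∃ A' ∈ Fa C W m, A' ≤ A ∧ (∃ a ∈ A', ∃ x ∈ X, a • x ≠ x) ∧
      ∀ a ∈ A', ∀ b ∈ A', ∀ x ∈ X, a • (b • x - x) = b • x - x := by
  obtain ⟨A₀, h1, h2, h3, h4, h5⟩ := hA
  have hne' : ¬ upc A ≤ centralizer (gp X : Set G) := by
    obtain ⟨a, ha, x, hx, h6⟩ := hne
    intro hc
    apply h6
    rw [smul_eq_iff]
    exact (mem_centralizer_iff.1 (hc (coe_mem_upc.2 ha)) _ (vl_mem_gp.2 hx)).symm
  obtain ⟨A', A₀', r1, r2, r3, r4, r5, r6, r7⟩ :=
    FfRep.repG hm h1 h2 w.el (h3.trans w.nrm) h4 h5 (gp_le X) (upc_nrm hX) hne'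
  have hA'C : A' ≤ C := r1.trans (upc_le A)
  have hu : upc (A'.subgroupOf C) = A' := upc_subgroupOf hA'C
  refine ⟨A'.subgroupOf C, ⟨A₀', r2, r3, r5.trans (sup_le hA'C hWC), by rw [hu]; exact r4, by rw [hu]; exact r5⟩,
    ?_, ?_, ?_⟩
  · rw [← upc_le_iff, hu]; exact r1
  · by_contra hc
    push Not at hc
    apply r6
    intro a ha
    rw [mem_centralizer_iff]
    rintro _ ⟨x, hx, rfl⟩
    exact ((smul_eq_iff _ _).1 (hc ⟨a, hA'C ha⟩ ha x hx)).symm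
  · intro a ha b hb x hx
    apply vl_inj
    rw [vl_smul, vl_sub, vl_smul]
    exact r7 _ ha _ hb _ (vl_mem_gp.2 hx)

end family

/-! ### The situation -/

variable {G : Type u} [Group G] [Finite G] {S : Sylow 2 G} {P : Subgroup G} {F : Type} [Field F] [Finite F]
  [CharP F 2] {k : ℕ} {N : NatK F (S : Subgroup G) P (zl (S : Subgroup G) P) (cv (S : Subgroup G) P) k}
  {L W Z C A : Fin k → Subgroup G} (D : Dt S P N L W Z C A)

/-- the family of `YS` -/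
abbrev FA (S : Sylow 2 G) (P : Subgroup G) : Set (Subgroup (CZ (S : Subgroup G))) :=
  Fa (CZ (S : Subgroup G)) (WW (S : Subgroup G) P) (mm (S : Subgroup G))

theorem W_le_C (h : Hyp S P) : WW (S : Subgroup G) P ≤ CZ (S : Subgroup G) := (W_le_S h).trans (S_le_CZ S)

theorem mem_FA (_ : Hyp S P) {B : Subgroup G} (hB : B ∈ AA (S : Subgroup G)) :
    B.subgroupOf (CZ (S : Subgroup G)) ∈ FA S P := by
  have h1 : B ≤ CZ (S : Subgroup G) := hB.2.1.trans (S_le_CZ S)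
  refine ⟨B, hB.1, (mm_eq hB).symm, h1, ?_, ?_⟩
  · rw [upc_subgroupOf h1]; exact le_sup_left
  · rw [upc_subgroupOf h1]; exact le_sup_left

/-- A conjugate of `S` which contains all members of `AA S` has the same `Z_J`. -/
theorem zj_eq_of (S : Sylow 2 G) {g : G} (h : ∀ B ∈ AA (S : Subgroup G), B ≤ cj g (S : Subgroup G)) :
    cj g (zj (S : Subgroup G)) = zj (S : Subgroup G) := by
  rw [← zj_cj]
  refine zj_congr (Eq.symm ?_)
  refine Subgroup.eq_of_le_of_card_ge ?_ (by rw [jj_cj, card_cj])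
  conv_lhs => rw [jj_eq]
  refine sSup_le fun B hB => le_jj ?_
  rw [mem_AA_iff]
  exact ⟨hB.1, h B hB, by rw [mm_cj]; exact (mm_eq hB).le⟩

theorem syl_SC (S : Sylow 2 G) : Syl (SC S) ⊤ := by
  refine ⟨le_top, S.isPGroup'.comap_subtype, fun Q _ hQ hSQ => ?_⟩
  have h1 : (S : Subgroup G) ≤ upc Q := (upc_subgroupOf (S_le_CZ S)).ge.trans (upc_le_iff.2 hSQ)
  have h2 := S.is_maximal' (isPGroup_upc.2 hQ) h1
  apply upc_inj
  rw [h2, upc_subgroupOf (S_le_CZ S)]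

include D in
/-- **The situation `YS`.** -/
theorem Dt.ys (hq : 4 ≤ Nat.card F) : YS (FA S P) (SC S) (ZZi D) (ZZ D) (VV D) := by
  have H := D.line.hyp.toHyp
  have w := wd H
  have hmx := Uni.mx_sylow S
  exact
    { two := D.two'
      cjA := fun A hA g => Fa.conj w hA g
      el := fun A hA => Fa.el w hA
      ff := fun A hA X hX => Fa.ff w hmx hA X hX
      rep := fun A hA X hX hne => Fa.rep w (W_le_C H) hmx hA X hX hne
      syl := syl_SC S
      det := fun g hg => by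
        rw [D.smulZ]
        refine zj_eq_of S fun B hB => ?_
        have hBC : B ≤ CZ (S : Subgroup G) := hB.2.1.trans (S_le_CZ S)
        have h1 := hg _ (mem_FA H hB) fun x hx => hB.2.1 hx
        rw [← upc_le_iff, upc_cj, upc_subgroupOf hBC, upc_subgroupOf (S_le_CZ S)] at h1
        exact h1
      cen := fun A hA hAS a ha z hz => by
        obtain ⟨A₀, h1, h2, h3, h4, h5⟩ := hA
        have h6 : A₀ ≤ (S : Subgroup G) := by
          exact h5.trans (sup_le ((upc_le_iff.2 hAS).trans (upc_subgroupOf (S_le_CZ S)).le) (W_le_S H))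
        have h7 : A₀ ∈ AA (S : Subgroup G) := mem_AA_iff.2 ⟨h1, h6, h2.ge⟩
        obtain ⟨b, hb, h8⟩ := Fa.act w h3 h4 ha
        have h9 := (mem_zj.1 hz).2.2 b (le_jj h7 hb)
        apply vl_inj
        rw [vl_smul, h8 _ (vl_mem z), h9]
        group
      ZiZ := D.ZiZ
      dec := D.dec
      uni := D.uni
      prm := D.prm
      odd := D.odd
      four := fun i => by
        rw [card_ad (show Z i ≤ WW (S : Subgroup G) P from fun x hx => D.Z_le_W (D.mem_Z'.1 hx).1),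
          D.line.fr.cardZ i]
        exact hq
      ZV := fun x hx => D.cd.ZV hx
      SV := fun s hs => (smul_ad_eq_iff _ V_le_W V_le_W).2 (D.line.norm (Line.S_le S hs)).1
      lemV := D.lemV }

include D in
/-- **THEOREM Y**, before (8). -/
theorem Dt.main (hq : 4 ≤ Nat.card F) :
    CZ (S : Subgroup G) ≤ normalizer (zj (S : Subgroup G) : Set G) ∨
    ∃ R : Subgroup G, zc (S : Subgroup G) ≤ R ∧ R ≤ zj (S : Subgroup G) ∧
      Nat.card (zj (S : Subgroup G)) ≤ 2 * Nat.card R ∧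
      ∃ g ∈ centralizer (R : Set G), g ∉ normalizer (zj (S : Subgroup G) : Set G) := by
  rcases (D.ys hq).main with h | ⟨R, h1, h2, g, h3, h4⟩
  · left
    intro g hg
    rw [mem_normalizer_iff_cj]
    exact D.smulZ.1 (h ⟨g, hg⟩)
  · right
    have hzc : zc (S : Subgroup G) ≤ zj (S : Subgroup G) := zc_le_zj _
    refine ⟨gp R ⊔ zc (S : Subgroup G), le_sup_right, sup_le ?_ hzc, ?_, (g : G), ?_, fun hn => h4 ?_⟩
    · rintro _ ⟨x, hx, rfl⟩
      exact h1 hx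
    · have h5 : Nat.card R ≤ Nat.card ↥(gp R ⊔ zc (S : Subgroup G)) := by
        rw [← card_gp R]
        exact Subgroup.card_le_of_le le_sup_left
      have h6 : Nat.card (zj (S : Subgroup G)) = 2 * Nat.card R := by
        rw [← h2, card_ad D.Z_le_W]
      rw [h6]
      exact Nat.mul_le_mul_left 2 h5
    · have h6 : gp R ⊔ zc (S : Subgroup G) ≤ centralizer ({(g : G)} : Set G) := by
        refine sup_le ?_ ?_
        · rintro _ ⟨x, hx, rfl⟩
          rw [mem_centralizer_singleton_iff]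
          exact ((smul_eq_iff _ _).1 (h3 x hx)).symm
        · intro z hz
          rw [mem_centralizer_singleton_iff]
          exact mem_centralizer_iff.1 g.2 z hz
      rw [mem_centralizer_iff]
      intro r hr
      exact mem_centralizer_singleton_iff.1 (h6 hr)
    · rw [D.smulZ]
      exact cj_eq_of_mem_normalizer hn

end Cfsg.Agent.Omega.OM.YThm.Plug

end

-- merged: Cfsg.Agent.Mrg.Omega.OM.YThm.End8D
section

section


/-!
# THEOREM Y, plug: transitivity and step (8) for the data `Dt`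

* `Dt.tr` : `S` is transitive on the `Z i`;
* `Dt.end8` : (8) for `Dt`.
-/

set_option autoImplicit false

namespace Cfsg.Agent.Omega.OM.YThm.Plug

open Subgroup Cfsg Cfsg.Agent.ZN.ChoiceBase Cfsg.Agent.ZN.ChoiceSit
open Cfsg.Agent.ZN (jj zj bau zc zl o2)
open Cfsg.Agent.Omega.FFThm (NatK SymK ActsSL)
open Cfsg.Agent.Omega.FrameFF (cv)
open Cfsg.Agent.Omega.OM.YThm.End8 (FourF)
open scoped Pointwise

universe u

variable {G : Type u} [Group G] [Finite G] {S : Sylow 2 G} {P : Subgroup G} {F : Type} [Field F] [Finite F]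
  [CharP F 2] {k : ℕ} {N : NatK F (S : Subgroup G) P (zl (S : Subgroup G) P) (cv (S : Subgroup G) P) k}
  {L W Z C A : Fin k → Subgroup G} (D : Dt S P N L W Z C A)

include D

/-- `S` is transitive on the `Z i`. -/
theorem Dt.tr (i j : Fin k) : ∃ s ∈ (S : Subgroup G), cj s (Z i) = Z j := by
  obtain ⟨t, ht, h1⟩ := N.trans i j
  obtain ⟨-, h2⟩ := D.line.norm (Line.S_le S ht)
  obtain ⟨j', h3, -⟩ := h2 i
  have c := D.cd
  obtain ⟨z, hz, hze⟩ := c.surj (sg i 1 0)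
  have hzZ : z ∈ Z i := (D.mem_Z i z).2 ⟨(D.mem_W i z).2 ⟨hz, fun l hl => by rw [hze, sg_ne hl]⟩,
    by rw [hze, sg_same]; rfl⟩
  have h4 : t * z * t⁻¹ ∈ Z j' := by
    rw [← h3]; exact ⟨z, hzZ, rfl⟩
  have h5 : N.e (t * z * t⁻¹) j ≠ 0 := by
    rw [Ne, h1 z hz, hze, sg_same]
    intro h
    exact one_ne_zero (congrFun h 0)
  have h6 : j = j' := by
    by_contra hne
    exact h5 (((D.mem_W j' _).1 ((D.mem_Z j' _).1 h4).1).2 j hne)
  exact ⟨t, ht, by rw [h3, h6]⟩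

/-- (8) -/
theorem Dt.end8 (hFF : FFThm.Stmt.{u}) (hq : 4 ≤ Nat.card F) {R : Subgroup G}
    (hZR : zc (S : Subgroup G) ≤ R) (hR : R ≤ zj (S : Subgroup G))
    (hcR : Nat.card (zj (S : Subgroup G)) ≤ 2 * Nat.card R) {g : G} (hg : g ∈ centralizer (R : Set G))
    (hgn : g ∉ normalizer (zj (S : Subgroup G) : Set G)) : FourF (S : Subgroup G) (Nat.card F) := by
  have c := D.cd
  refine D.line.end8 D.tr hFF hq rfl (k := k) (fun z i => N.e z i 0) ?_ ?_ ?_ ?_ hZR hR hcR hg hgn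
  · intro z hz w hw
    funext i
    show N.e (z * w) i 0 = N.e z i 0 + N.e w i 0
    rw [c.mul z (c.ZV hz) w (c.ZV hw)]
    rfl
  · intro x
    obtain ⟨v, hv, hve⟩ := c.surj fun i => ![x i, 0]
    refine ⟨v, (c.memZ v hv).2 fun i => by rw [hve]; rfl, ?_⟩
    funext i
    rw [hve]
    rfl
  · intro z hz h0
    refine c.inj z (c.ZV hz) ?_
    funext i l
    fin_cases l
    · exact congrFun h0 i
    · exact (c.memZ z (c.ZV hz)).1 hz i
  · intro t ht
    obtain ⟨π, σ, cc, d, hS, -⟩ := c.semi (D.nm ht)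
    exact ⟨π, cc, σ, hS.zero⟩

end Cfsg.Agent.Omega.OM.YThm.Plug

end

section


/-!
# THEOREM Y (TCARD 5 #19947), stage `-1`

`HypJ S P`, `V_P` natural with `k ≥ 2` blocks over `F`, `|F| ≥ 4`: `C_G(Ω₁(Z(S))) ≤ N_G(Z_J)`, or `(4F)`:
`|F| = 4` and some 2-element of `N_G(B)` centralises a hyperplane of `Z_J`.
-/

set_option autoImplicit false

namespace Cfsg.Agent.Omega.OM.YThm.Plug

open Subgroup Cfsg Cfsg.Agent.ZN.ChoiceBase Cfsg.Agent.ZN.ChoiceSit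
open Cfsg.Agent.ZN (jj zj bau zc zl o2)
open Cfsg.Agent.Omega.FFThm (NatK)
open Cfsg.Agent.Omega.FrameFF (cv)
open Cfsg.Agent.Omega.FrameNOFF (CZ)
open Cfsg.Agent.Omega.NO3S (HypJ Hyp WW)
open Cfsg.Agent.Omega.OM.YThm.End8 (FourF)

universe u

variable {G : Type u} [Group G] [Finite G] {S : Sylow 2 G} {P : Subgroup G} {F : Type} [Field F] [Finite F]
  [CharP F 2] {k : ℕ}

/-- **THEOREM Y** over the frame. -/
theorem Dt.thmY {N : NatK F (S : Subgroup G) P (zl (S : Subgroup G) P) (cv (S : Subgroup G) P) k}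
    {L W Z C A : Fin k → Subgroup G} (D : Dt S P N L W Z C A) (hFF : FFThm.Stmt.{u}) (hq : 4 ≤ Nat.card F) :
    CZ (S : Subgroup G) ≤ normalizer (zj (S : Subgroup G) : Set G) ∨ FourF (S : Subgroup G) (Nat.card F) := by
  rcases D.main hq with h | ⟨R, h1, h2, h3, g, h4, h5⟩
  · exact Or.inl h
  · exact Or.inr (D.end8 hFF hq h1 h2 h3 h4 h5)

/-- **THEOREM Y.** -/
theorem thmY (h : HypJ S P) (hFF : FFThm.Stmt.{u}) (hk : 2 ≤ k) (hq : 4 ≤ Nat.card F)
    (N : NatK F (S : Subgroup G) P (zl (S : Subgroup G) P) (cv (S : Subgroup G) P) k) :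
    CZ (S : Subgroup G) ≤ normalizer (zj (S : Subgroup G) : Set G) ∨ FourF (S : Subgroup G) (Nat.card F) := by
  obtain ⟨L, W, Z, C, A, D⟩ := exists_dt h hk N
  exact D.thmY hFF hq

end Cfsg.Agent.Omega.OM.YThm.Plug

end

end
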